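import Mathlib
import Groth.Agent.CMLocus.Basic
import Groth.Agent.FlatLocus.General
import Groth.Agent.FlatLocalDepth.Comp
import Groth.Agent.RelDim.Basic

/-!
# Flatness of quasi-finite maps from polynomial rings at Cohen–Macaulay points of fibres

If `R → T` is finitely presented and flat at `q`, the fibre through `q` is Cohen–Macaulay of local dimension `n`
at `q`, then every quasi-finite `R`-map `R[t₁,…,tₙ] → T` is flat at `q`.
-/

set_option autoImplicit false
universe u

open TensorProduct

namespace Groth.Agent.CMRel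

/-- `Ideal.Fiber.algEquivAux₂` is compatible with the maps from `S`. -/
theorem algEquivAux₂_tmul {R S : Type u} [CommRing R] [CommRing S] [Algebra R S] (p : Ideal R) [p.IsPrime]
    (q : Ideal (p.Fiber S)) [q.IsPrime] (s : S) :
    Ideal.Fiber.algEquivAux₂ p q (algebraMap (p.Fiber S) (Localization.AtPrime q) (1 ⊗ₜ[R] s)) =
      Ideal.Quotient.mk _ (algebraMap S (Localization.AtPrime (q.comap Algebra.TensorProduct.includeRight)) s) := by
  let : Algebra S (p.Fiber S) := Algebra.TensorProduct.rightAlgebra
  rw [show (1 : p.ResidueField) ⊗ₜ[R] s = algebraMap S (p.Fiber S) s from rfl, ← IsScalarTower.algebraMap_apply]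
  simp only [Ideal.Fiber.algEquivAux₂, AlgEquiv.trans_apply, AlgEquiv.restrictScalars_apply, AlgEquiv.commutes]
  conv_lhs => arg 2; rw [IsScalarTower.algebraMap_apply S (S ⧸ p.map (algebraMap R S))]
  rw [AlgEquiv.commutes]
  rfl

/-- flatness of `(P/J) ⊗ B` from flatness of `B/JB` -/
theorem flat_quot_tensor {P B : Type u} [CommRing P] [CommRing B] [Algebra P B] (J : Ideal P) (I : Ideal B)
    (hI : I = J.map (algebraMap P B))
    (h : (Ideal.Quotient.lift J ((Ideal.Quotient.mk I).comp (algebraMap P B)) fun a ha => by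
      rw [RingHom.comp_apply, Ideal.Quotient.eq_zero_iff_mem, hI]; exact Ideal.mem_map_of_mem _ ha).Flat) :
    Module.Flat (P ⧸ J) ((P ⧸ J) ⊗[P] B) := by
  subst hI
  have : Module.Flat (P ⧸ J) (B ⧸ J.map (algebraMap P B)) := by
    rw [← RingHom.flat_algebraMap_iff]
    convert h using 1
    exact Ideal.Quotient.ringHom_ext (RingHom.ext fun _ => rfl)
  let e : (P ⧸ J) ⊗[P] B ≃ₗ[P] B ⧸ J.map (algebraMap P B) :=
    TensorProduct.comm P _ _ ≪≫ₗ
      ((Algebra.TensorProduct.quotIdealMapEquivTensorQuot B J).symm.toLinearEquiv.restrictScalars P)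
  exact Module.Flat.of_linearEquiv (e.extendScalarsOfSurjective (S := P ⧸ J) Ideal.Quotient.mk_surjective)

/-- `R[t]/pR[t] → κ(p)[t]` is flat -/
theorem exists_flat_quotient_map {R : Type u} [CommRing R] (p : Ideal R) [p.IsPrime] (n : ℕ) :
    ∃ h : ∀ a ∈ p.map (algebraMap R (MvPolynomial (Fin n) R)),
        MvPolynomial.map (algebraMap R p.ResidueField) a = 0,
      (Ideal.Quotient.lift _ (MvPolynomial.map (algebraMap R p.ResidueField)) h).Flat := by
  have h : ∀ a ∈ p.map (algebraMap R (MvPolynomial (Fin n) R)),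
      MvPolynomial.map (algebraMap R p.ResidueField) a = 0 := fun a ha => by
    refine (Ideal.map_le_iff_le_comap.2 ?_ : p.map _ ≤ RingHom.ker (MvPolynomial.map (algebraMap R p.ResidueField))) ha
    intro r hr
    simp [RingHom.mem_ker, MvPolynomial.algebraMap_eq, Ideal.algebraMap_residueField_eq_zero.2 hr]
  refine ⟨h, ?_⟩
  let L := MvPolynomial (Fin n) p.ResidueField
  let L₀ := MvPolynomial (Fin n) (R ⧸ p)
  let π : MvPolynomial (Fin n) R →+* L₀ := MvPolynomial.map (Ideal.Quotient.mk p)
  have hπ : RingHom.ker π = p.map (algebraMap R (MvPolynomial (Fin n) R)) := by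
    rw [MvPolynomial.ker_map, Ideal.mk_ker, MvPolynomial.algebraMap_eq]
  let e : MvPolynomial (Fin n) R ⧸ p.map (algebraMap R (MvPolynomial (Fin n) R)) →+* L₀ :=
    Ideal.Quotient.lift _ π fun a ha => RingHom.mem_ker.1 (hπ.ge ha)
  have hebij : Function.Bijective e :=
    ⟨RingHom.lift_injective_of_ker_le_ideal _ _ hπ.le,
      Ideal.Quotient.lift_surjective_of_surjective _ _ (MvPolynomial.map_surjective _ Ideal.Quotient.mk_surjective)⟩
  let g : L₀ →+* L := MvPolynomial.map (algebraMap (R ⧸ p) p.ResidueField)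
  have hg : g.Flat := by
    letI : Algebra L₀ L := MvPolynomial.algebraMvPolynomial
    haveI := MvPolynomial.isLocalization (σ := Fin n) (nonZeroDivisors (R ⧸ p)) p.ResidueField
    show (algebraMap L₀ L).Flat
    rw [RingHom.flat_algebraMap_iff]
    exact IsLocalization.flat L ((nonZeroDivisors (R ⧸ p)).map MvPolynomial.C)
  have he : Ideal.Quotient.lift _ _ h = g.comp e := by
    refine Ideal.Quotient.ringHom_ext (RingHom.ext fun a => ?_)
    rw [RingHom.comp_apply, RingHom.comp_apply, RingHom.comp_apply, Ideal.Quotient.lift_mk,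
      Ideal.Quotient.lift_mk, MvPolynomial.map_map]
    rfl
  rw [he]
  exact RingHom.Flat.comp (RingHom.Flat.of_bijective hebij) hg

set_option maxHeartbeats 800000 in
open Algebra.TensorProduct in
/-- a quasi-finite map from `R[t₁,…,tₙ]` is flat at CM points of flatness with fibre dimension `n` -/
theorem flat_of_quasiFinite {n : ℕ} {R T : Type u} [CommRing R] [CommRing T] [Algebra R T]
    [Algebra.FinitePresentation R T] [Algebra (MvPolynomial (Fin n) R) T]
    [IsScalarTower R (MvPolynomial (Fin n) R) T] [Algebra.QuasiFinite (MvPolynomial (Fin n) R) T]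
    (p : Ideal R) [p.IsPrime] (Q : PrimeSpectrum (p.Fiber T))
    [Module.Flat R (Localization.AtPrime (Q.asIdeal.comap (includeRight : T →ₐ[R] p.Fiber T)))]
    (hCM : LocCoh.IsCohenMacaulayLocalRing (Localization.AtPrime Q.asIdeal))
    (hd : FlatMor.localDim (PrimeSpectrum (p.Fiber T)) Q = (n : WithBot ℕ∞)) :
    Module.Flat (MvPolynomial (Fin n) R)
      (Localization.AtPrime (Q.asIdeal.comap (includeRight : T →ₐ[R] p.Fiber T))) := by
  let P := MvPolynomial (Fin n) R
  let F := p.Fiber T
  let L := MvPolynomial (Fin n) p.ResidueField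
  let q := Q.asIdeal.comap (includeRight : T →ₐ[R] F)
  have hqR : q.comap (algebraMap R T) = p :=
    congrArg PrimeSpectrum.asIdeal ((PrimeSpectrum.preimageOrderIsoFiber R T ⟨p, inferInstance⟩).symm Q).2
  let ψ : L →ₐ[p.ResidueField] F :=
    MvPolynomial.aeval fun i => (1 : p.ResidueField) ⊗ₜ[R] algebraMap P T (MvPolynomial.X i)
  let : Algebra L F := ψ.toRingHom.toAlgebra
  have : IsScalarTower p.ResidueField L F := IsScalarTower.of_algHom ψ
  let m : P →+* L := MvPolynomial.map (algebraMap R p.ResidueField)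
  have hψ : (algebraMap L F).comp m = (includeRight : T →ₐ[R] F).toRingHom.comp (algebraMap P T) := by
    refine MvPolynomial.ringHom_ext (fun r => ?_) (fun i => ?_)
    · show ψ (MvPolynomial.map _ (MvPolynomial.C r)) = (1 : p.ResidueField) ⊗ₜ[R] algebraMap P T (MvPolynomial.C r)
      rw [MvPolynomial.map_C, ← MvPolynomial.algebraMap_eq, AlgHom.commutes, ← MvPolynomial.algebraMap_eq,
        ← IsScalarTower.algebraMap_apply R P T, ← IsScalarTower.algebraMap_apply R p.ResidueField F]
      exact (includeRight.commutes r).symm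
    · show ψ (MvPolynomial.map _ (MvPolynomial.X i)) = _
      rw [MvPolynomial.map_X, MvPolynomial.aeval_X]
      rfl
  have : Algebra.FiniteType L F := Algebra.FiniteType.of_restrictScalars_finiteType p.ResidueField L F
  have : Algebra.QuasiFinite L F := by
    rw [Algebra.QuasiFinite.iff_finite_comap_preimage_singleton]
    intro x
    let j : PrimeSpectrum F → PrimeSpectrum T := PrimeSpectrum.comap (includeRight : T →ₐ[R] F).toRingHom
    have hj : Function.Injective j := fun a b h => (PrimeSpectrum.preimageOrderIsoFiber R T ⟨p, inferInstance⟩).symm.injective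
      (Subtype.ext h)
    refine Set.Finite.subset ((Algebra.QuasiFinite.finite_comap_preimage_singleton (R := P) (S := T)
      (PrimeSpectrum.comap m x)).preimage hj.injOn) fun z hz => ?_
    show PrimeSpectrum.comap (algebraMap P T) (j z) = PrimeSpectrum.comap m x
    rw [← (hz : PrimeSpectrum.comap (algebraMap L F) z = x)]
    simp only [j, ← PrimeSpectrum.comap_comp_apply, hψ]
  have hL : Module.Flat L (Localization.AtPrime Q.asIdeal) :=
    (CMLocus.flat_iff p.ResidueField F Q.asIdeal).2 ⟨hCM, hd⟩
  let N := LocalizedModule q.primeCompl T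
  have : Module.Flat R N := ‹_›
  have : Nontrivial N := inferInstanceAs (Nontrivial (Localization.AtPrime q))
  refine (FlatLocus.fibre_criterion (R := R) (S := P) (S' := T) (M := T) q ?_).1
  rw [hqR, FlatLocus.relFlat_iff_flat_quotient]
  show Module.Flat (P ⧸ p.map (algebraMap R P)) ((P ⧸ p.map (algebraMap R P)) ⊗[P] Localization.AtPrime q)
  have hI : (p.map (algebraMap R T)).map (algebraMap T (Localization.AtPrime q)) =
      (p.map (algebraMap R P)).map (algebraMap P (Localization.AtPrime q)) := by
    rw [Ideal.map_map, Ideal.map_map, ← IsScalarTower.algebraMap_eq, ← IsScalarTower.algebraMap_eq]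
  refine flat_quot_tensor _ _ hI ?_
  obtain ⟨h, hflat⟩ := exists_flat_quotient_map p n
  let e : Localization.AtPrime Q.asIdeal →+* Localization.AtPrime q ⧸ (p.map (algebraMap R T)).map (algebraMap T (Localization.AtPrime q)) :=
    (Ideal.Fiber.algEquivAux₂ p Q.asIdeal).toRingEquiv.toRingHom
  have hbij : Function.Bijective e := (Ideal.Fiber.algEquivAux₂ p Q.asIdeal).bijective
  have he := RingHom.Flat.of_bijective (R := Localization.AtPrime Q.asIdeal)
    (S := Localization.AtPrime q ⧸ (p.map (algebraMap R T)).map (algebraMap T (Localization.AtPrime q))) (f := e) hbij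
  have hcomp := RingHom.Flat.comp (RingHom.Flat.comp hflat (RingHom.flat_algebraMap_iff.2 hL)) he
  convert hcomp using 1
  refine Ideal.Quotient.ringHom_ext ?_
  refine RingHom.ext fun a => ?_
  rw [RingHom.comp_apply, RingHom.comp_apply, RingHom.comp_apply, RingHom.comp_apply, Ideal.Quotient.lift_mk,
    Ideal.Quotient.lift_mk, RingHom.comp_apply]
  show _ = e (algebraMap L (Localization.AtPrime Q.asIdeal) (m a))
  rw [IsScalarTower.algebraMap_apply L F (Localization.AtPrime Q.asIdeal),
    show algebraMap L F (m a) = (1 : p.ResidueField) ⊗ₜ[R] algebraMap P T a from RingHom.congr_fun hψ a]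
  exact ((algEquivAux₂_tmul p Q.asIdeal (algebraMap P T a)).trans
    (congrArg _ (IsScalarTower.algebraMap_apply P T (Localization.AtPrime q) a).symm)).symm

set_option maxHeartbeats 800000 in
open Algebra.TensorProduct in
/-- near a flat point with Cohen–Macaulay fibre there is a quasi-finite map from `R[t₁,…,tₙ]`, flat at the point -/
theorem exists_quasiFinite_flat {R S : Type u} [CommRing R] [CommRing S] [Algebra R S]
    [Algebra.FinitePresentation R S] (q : Ideal S) [q.IsPrime] [Module.Flat R (Localization.AtPrime q)]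
    (p : Ideal R) [p.IsPrime] (Q : PrimeSpectrum (p.Fiber S))
    (hQ : Q.asIdeal.comap (includeRight : S →ₐ[R] p.Fiber S).toRingHom = q)
    (hCM : LocCoh.IsCohenMacaulayLocalRing (Localization.AtPrime Q.asIdeal)) :
    ∃ n : ℕ, FlatMor.localDim (PrimeSpectrum (p.Fiber S)) Q = (n : WithBot ℕ∞) ∧
      ∃ g : S, g ∉ q ∧ ∃ φ : MvPolynomial (Fin n) R →ₐ[R] Localization.Away g,
      φ.toRingHom.QuasiFinite ∧ ∀ (q' : Ideal (Localization.Away g)) [q'.IsPrime], q'.under S = q →
        ((algebraMap (Localization.Away g) (Localization.AtPrime q')).comp φ.toRingHom).Flat := by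
  have : Algebra.FiniteType p.ResidueField (p.Fiber S) := inferInstance
  have : IsNoetherianRing (p.Fiber S) := Algebra.FiniteType.isNoetherianRing p.ResidueField _
  obtain ⟨t, -, htd⟩ := CMLocus.exists_trdeg_residue p.ResidueField (p.Fiber S) Q.asIdeal
  obtain ⟨h, hh⟩ := ENat.ne_top_iff_exists.1 (Ideal.height_ne_top (I := Q.asIdeal) Ideal.IsPrime.ne_top')
  have hdim : FlatMor.localDim (PrimeSpectrum (p.Fiber S)) Q = ((h + t : ℕ) : WithBot ℕ∞) := by
    rw [CMLocus.localDim_eq p.ResidueField (p.Fiber S) Q, htd,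
      IsLocalization.AtPrime.ringKrullDim_eq_height Q.asIdeal, ← hh]
    rfl
  obtain ⟨g, hg, φ, -, hφ⟩ := RelDim.exists_quasiFinite p q Q hQ (h + t) hdim
  refine ⟨h + t, hdim, g, hg, φ, hφ, fun q' hq'p hq' => ?_⟩
  let T := Localization.Away g
  let P := MvPolynomial (Fin (h + t)) R
  let : Algebra P T := φ.toRingHom.toAlgebra
  have : IsScalarTower R P T := IsScalarTower.of_algHom φ
  have : Algebra.QuasiFinite P T := hφ
  have : Algebra.FinitePresentation S T := IsLocalization.Away.finitePresentation g
  have : Algebra.FinitePresentation R T := Algebra.FinitePresentation.trans R S T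
  have hqR : q.under R = p := by
    rw [← hQ]
    exact congrArg PrimeSpectrum.asIdeal ((PrimeSpectrum.preimageOrderIsoFiber R S ⟨p, inferInstance⟩).symm Q).2
  have hq'R : q'.under R = p := by rw [← Ideal.under_under (B := S), hq', hqR]
  let eT := PrimeSpectrum.preimageOrderIsoFiber R T ⟨p, inferInstance⟩
  let Q' : PrimeSpectrum (p.Fiber T) := eT ⟨⟨q', hq'p⟩, PrimeSpectrum.ext hq'R⟩
  have hQ'q : Q'.asIdeal.comap (includeRight : T →ₐ[R] p.Fiber T) = q' :=
    congrArg (fun z => z.1.asIdeal) (eT.symm_apply_apply ⟨⟨q', hq'p⟩, PrimeSpectrum.ext hq'R⟩)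
  let : Algebra (p.Fiber S) (p.Fiber T) :=
    (Algebra.TensorProduct.map (AlgHom.id p.ResidueField p.ResidueField) (IsScalarTower.toAlgHom R S T)).toAlgebra
  have : IsScalarTower p.ResidueField (p.Fiber S) (p.Fiber T) := IsScalarTower.of_algebraMap_eq fun x =>
    ((Algebra.TensorProduct.map (AlgHom.id p.ResidueField p.ResidueField) (IsScalarTower.toAlgHom R S T)).commutes x).symm
  have hinc : (algebraMap (p.Fiber S) (p.Fiber T)).comp (includeRight : S →ₐ[R] p.Fiber S).toRingHom =
      (includeRight : T →ₐ[R] p.Fiber T).toRingHom.comp (algebraMap S T) :=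
    RingHom.ext fun x => rfl
  have : IsLocalization ((Submonoid.powers g).map (includeRight (R := R) (A := p.ResidueField))) (p.Fiber T) :=
    IsLocalization.tensorProduct_tensorProduct_right R p.ResidueField (Submonoid.powers g) T hinc
  have hpow : (Submonoid.powers g).map (includeRight (R := R) (A := p.ResidueField)) =
      Submonoid.powers ((1 : p.ResidueField) ⊗ₜ[R] g) := Submonoid.map_powers _ _
  have : IsLocalization.Away ((1 : p.ResidueField) ⊗ₜ[R] g) (p.Fiber T) := by
    show IsLocalization (Submonoid.powers _) _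
    exact hpow ▸ ‹_›
  let ι : PrimeSpectrum (p.Fiber T) → PrimeSpectrum (p.Fiber S) := PrimeSpectrum.comap (algebraMap _ _)
  have hι : Topology.IsOpenEmbedding ι :=
    PrimeSpectrum.localization_away_isOpenEmbedding (p.Fiber T) ((1 : p.ResidueField) ⊗ₜ[R] g)
  have hιQ : ι Q' = Q := by
    refine (PrimeSpectrum.preimageOrderIsoFiber R S ⟨p, inferInstance⟩).symm.injective (Subtype.ext (PrimeSpectrum.ext ?_))
    show ((ι Q').asIdeal.comap (includeRight : S →ₐ[R] p.Fiber S).toRingHom) =
      Q.asIdeal.comap (includeRight : S →ₐ[R] p.Fiber S).toRingHom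
    rw [hQ, ← hq']
    show (Q'.asIdeal.comap (algebraMap (p.Fiber S) (p.Fiber T))).comap _ = _
    rw [Ideal.comap_comap, hinc, ← Ideal.comap_comap]
    exact congrArg (Ideal.comap (algebraMap S T)) hQ'q
  have hd : FlatMor.localDim (PrimeSpectrum (p.Fiber T)) Q' = ((h + t : ℕ) : WithBot ℕ∞) := by
    rw [← FieldExtLD.localDim_of_isOpenEmbedding hι Q', hιQ, hdim]
  have hCM' : LocCoh.IsCohenMacaulayLocalRing (Localization.AtPrime Q'.asIdeal) := by
    rw [← hιQ] at hCM
    have : IsLocalization (ι Q').asIdeal.primeCompl (Localization.AtPrime Q'.asIdeal) :=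
      IsLocalization.isLocalization_isLocalization_atPrime_isLocalization
      (Submonoid.powers ((1 : p.ResidueField) ⊗ₜ[R] g)) (Localization.AtPrime Q'.asIdeal) Q'.asIdeal
    let e : Localization.AtPrime (ι Q').asIdeal ≃ₐ[p.Fiber S] Localization.AtPrime Q'.asIdeal :=
      IsLocalization.algEquiv (ι Q').asIdeal.primeCompl _ _
    exact @FlatLocalDepth.isCohenMacaulayLocalRing_of_ringEquiv _ _ _ _ hCM e.toRingEquiv
  have hflat : Module.Flat R (Localization.AtPrime q') := by
    subst hq'
    have := IsLocalization.isLocalization_isLocalization_atPrime_isLocalization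
      (Submonoid.powers g) (Localization.AtPrime q') q'
    let e : Localization.AtPrime (q'.under S) ≃ₐ[S] Localization.AtPrime q' :=
      IsLocalization.algEquiv (q'.under S).primeCompl _ _
    exact Module.Flat.of_linearEquiv (e.toLinearEquiv.restrictScalars R).symm
  show ((algebraMap T (Localization.AtPrime q')).comp (algebraMap P T)).Flat
  rw [← IsScalarTower.algebraMap_eq, RingHom.flat_algebraMap_iff]
  have key : ∀ (r : Ideal T) [r.IsPrime], Q'.asIdeal.comap (includeRight : T →ₐ[R] p.Fiber T) = r →
      Module.Flat R (Localization.AtPrime r) → Module.Flat P (Localization.AtPrime r) := by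
    rintro r _ rfl hr
    exact flat_of_quasiFinite p Q' hCM' hd
  exact key q' hQ'q hflat

end Groth.Agent.CMRel
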