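import Mathlib
import Groth.Agent.CMRel.Algebra
import Groth.Agent.FlatLocalDepth.CMAt
import Groth.Agent.FlatOverBC.CMScheme
import Groth.Agent.Unram.Pointwise
import Groth.Agent.Depth.CM
import Groth.Agent.LocCohBasic.RegularPd
import Groth.Agent.S9766
import Groth.Agent.S9767
import Groth.Agent.S9768

/-!
# Cohen–Macaulay morphisms factor through affine space by flat quasi-finite maps
-/

set_option autoImplicit false
universe u

open CategoryTheory CategoryTheory.Limits AlgebraicGeometry TensorProduct IsLocalRing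

namespace Groth.Agent.CMRel

variable {X Y : Scheme.{u}}

theorem flat_stalkMap_comp {Z : Scheme.{u}} (f : X ⟶ Y) (g : Y ⟶ Z) (x : X) (hf : (f.stalkMap x).hom.Flat)
    (hg : (g.stalkMap (f x)).hom.Flat) : ((f ≫ g).stalkMap x).hom.Flat := by
  rw [Scheme.Hom.stalkMap_comp]
  exact RingHom.Flat.comp hg hf

theorem flat_stalkMap_isoOpensRange {A : Scheme.{u}} (j : A ⟶ X) [IsOpenImmersion j] (h : A ⟶ Y) (a : A)
    (x : X) (hja : j a = x) (hx : x ∈ j.opensRange) (hha : (h.stalkMap a).hom.Flat) :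
    ((j.isoOpensRange.inv ≫ h).stalkMap ⟨x, hx⟩).hom.Flat := by
  have hpt : j.isoOpensRange.inv ⟨x, hx⟩ = a := by
    apply j.isOpenEmbedding.injective
    refine Eq.trans ?_ hja.symm
    show (j.isoOpensRange.inv ≫ j) _ = x
    rw [Scheme.Hom.isoOpensRange_inv_comp]
    rfl
  exact flat_stalkMap_comp _ _ _ (Flat.stalkMap _ _) (hpt.symm ▸ hha)

theorem specMap_comp_fromSpec_apply {V : X.Opens} (hV : IsAffineOpen V) {T : Type u} [CommRing T]
    (f : Γ(X, V) →+* T) (a : PrimeSpectrum T) :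
    (Spec.map (CommRingCat.ofHom f) ≫ hV.fromSpec) a = hV.fromSpec (PrimeSpectrum.comap f a) :=
  rfl

theorem flat_specMap_stalkMap {A B : CommRingCat.{u}} (φ : A ⟶ B) (a : PrimeSpectrum B)
    (h : ((algebraMap B (Localization.AtPrime a.asIdeal)).comp φ.hom).Flat) :
    ((Spec.map φ).stalkMap a).hom.Flat := by
  refine (RingHom.Flat.respectsIso.arrow_mk_iso_iff (Scheme.arrowStalkMapSpecIso φ a)).2 ?_
  letI : Algebra A B := φ.hom.toAlgebra
  let p := a.asIdeal.under A
  letI := Localization.AtPrime.algebraOfLiesOver p a.asIdeal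
  show (algebraMap (Localization.AtPrime p) (Localization.AtPrime a.asIdeal)).Flat
  rw [RingHom.flat_algebraMap_iff]
  refine (Module.flat_iff_of_isLocalization (Localization.AtPrime p) p.primeCompl _).2 ?_
  rw [← RingHom.flat_algebraMap_iff, IsScalarTower.algebraMap_eq A B (Localization.AtPrime a.asIdeal)]
  exact h

instance flat_affineSpace (n : Type u) (S : Scheme.{u}) : Flat (𝔸(n; S) ↘ S) := by
  have h0 : Flat (𝔸(n; Spec (CommRingCat.of (ULift.{u} ℤ))) ↘ Spec (CommRingCat.of (ULift.{u} ℤ))) := by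
    have : Flat (Spec.map (CommRingCat.ofHom (MvPolynomial.C (σ := n) (R := ULift.{u} ℤ)))) := by
      rw [HasRingHomProperty.Spec_iff (P := @AlgebraicGeometry.Flat), CommRingCat.hom_ofHom,
        ← MvPolynomial.algebraMap_eq, RingHom.flat_algebraMap_iff]
      infer_instance
    rw [← Iso.hom_inv_id_assoc (AffineSpace.SpecIso n (CommRingCat.of (ULift.{u} ℤ))) (_ ↘ _),
      AffineSpace.SpecIso_inv_over]
    infer_instance
  exact MorphismProperty.of_isPullback (P := @AlgebraicGeometry.Flat)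
    (AffineSpace.isPullback_map (n := n) (specULiftZIsTerminal.from S)) h0

theorem isRegularRing_uliftInt : IsRegularRing (ULift.{u} ℤ) :=
  IsRegularRing.of_ringEquiv ULift.ringEquiv.symm

theorem isCMAt_affineSpace (n : Type u) [Finite n] (S : Scheme.{u}) (x : 𝔸(n; S)) :
    MoreMor.IsCMAt (𝔸(n; S) ↘ S) x := by
  let Z := Spec (CommRingCat.of (ULift.{u} ℤ))
  let π₀ := 𝔸(n; Z) ↘ Z
  have := isRegularRing_uliftInt.{u}
  have : IsNoetherianRing (MvPolynomial n (ULift.{u} ℤ)) := inferInstance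
  have : IsLocallyNoetherian 𝔸(n; Z) := LocallyOfFiniteType.isLocallyNoetherian π₀
  have hst : ∀ z : 𝔸(n; Z), LocCoh.IsCohenMacaulayLocalRing (𝔸(n; Z).presheaf.stalk z) := by
    intro z
    let e := AffineSpace.SpecIso n (CommRingCat.of (ULift.{u} ℤ))
    let a : PrimeSpectrum (MvPolynomial n (ULift.{u} ℤ)) := e.hom z
    have hreg : IsRegularLocalRing (Localization.AtPrime a.asIdeal) := inferInstance
    have hcm : LocCoh.IsCohenMacaulayLocalRing (Localization.AtPrime a.asIdeal) :=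
      LocCohBasic.isCohenMacaulayLocalRing_of_isRegularLocalRing (R := Localization.AtPrime a.asIdeal)
    let e₁ := (Spec.stalkIso (CommRingCat.of (MvPolynomial n (ULift.{u} ℤ))) a).commRingCatIsoToRingEquiv
    let e₂ := (asIso (e.hom.stalkMap z)).commRingCatIsoToRingEquiv
    exact @FlatLocalDepth.isCohenMacaulayLocalRing_of_ringEquiv _ _ _ _ hcm (e₁.symm.trans e₂)
  let t := specULiftZIsTerminal.from S
  have hc := AffineSpace.isPullback_map (n := n) t
  refine (FlatOverBC.isCMAt_baseChange_iff_of_flat hc x (FlatOverBC.isLocallyNoetherian_fiber _ _) ?_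
    (Or.inl inferInstance) (Flat.stalkMap _ _)).2 (Groth.Agent.S9768.result π₀ hst _).1
  exact FlatLocalDepth.isNoetherianRing_fibre_quotient _ x (FlatOverBC.isLocallyNoetherian_fiber _ _)

theorem isCMAt_of_locallyQuasiFinite (g : X ⟶ Y) [LocallyQuasiFinite g] (x : X)
    (h : (g.stalkMap x).hom.Flat) : MoreMor.IsCMAt g x := by
  rw [FlatLocalDepth.isCMAt_iff]
  refine ⟨h, ?_⟩
  obtain ⟨e⟩ := FlatLocalDepth.nonempty_asFiber_stalk_equiv g x
  refine @FlatLocalDepth.isCohenMacaulayLocalRing_of_ringEquiv _ _ _ _ ?_ e.symm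
  let F := g.fiber (g x)
  obtain ⟨_, ⟨W, hW, rfl⟩, hxW, -⟩ :=
    F.isBasis_affineOpens.exists_subset_of_mem_open (Set.mem_univ (g.asFiber x)) isOpen_univ
  have : IsArtinianRing Γ(F, W) := IsLocallyArtinian.isArtinianRing_presheaf_obj ⟨W, hW⟩
  letI := F.presheaf.algebra_section_stalk ⟨g.asFiber x, hxW⟩
  have := hW.isLocalization_stalk ⟨g.asFiber x, hxW⟩
  have : IsArtinianRing (F.presheaf.stalk (g.asFiber x)) :=
    IsArtinianRing.localization_artinian (hW.primeIdealOf ⟨g.asFiber x, hxW⟩).asIdeal.primeCompl _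
  rw [Depth.isCohenMacaulayLocalRing_iff]
  have h0 : ringKrullDim (F.presheaf.stalk (g.asFiber x)) = 0 :=
    le_antisymm (Ring.krullDimLE_iff.1 inferInstance) ringKrullDim_nonneg_of_nontrivial
  exact le_antisymm (h0.le.trans (WithBot.coe_le_coe.2 zero_le)) Depth.depth_le_ringKrullDim

theorem isCMAt_of_factor {Z : Scheme.{u}} (f : X ⟶ Y) (U : X.Opens) [LocallyOfFiniteType f]
    (g : U.toScheme ⟶ Z) (π : Z ⟶ Y) (hgπ : g ≫ π = U.ι ≫ f) (x : U.toScheme) [LocallyQuasiFinite g]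
    (hg : (g.stalkMap x).hom.Flat) (hπ : MoreMor.IsCMAt π (g x)) : MoreMor.IsCMAt f (U.ι x) := by
  have : LocallyOfFiniteType (g ≫ π) := hgπ ▸ inferInstance
  have h := Groth.Agent.S9766.result g π x (FlatOverBC.isLocallyNoetherian_fiber _ _)
    (isCMAt_of_locallyQuasiFinite g x hg) hπ
  rw [hgπ] at h
  exact (Groth.Agent.S9767.result U.ι f x (FlatOverBC.isLocallyNoetherian_fiber _ _)
    (FlatOverBC.isLocallyNoetherian_fiber _ _) h (Flat.stalkMap _ _)).2

open Algebra.TensorProduct in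
/-- The closed fibre of a local ring map is a local ring of the fibre. -/
theorem nonempty_fibre_equiv {R S A B : Type u} [CommRing R] [CommRing S] [CommRing A] [CommRing B] [Algebra R S]
    [Algebra R A] [Algebra S B] [IsLocalRing A] (p : Ideal R) [p.IsPrime] [IsLocalization.AtPrime A p]
    (Q : Ideal (p.Fiber S)) [Q.IsPrime]
    [IsLocalization.AtPrime B (Q.comap (includeRight : S →ₐ[R] p.Fiber S))] (σ : A →+* B)
    (hσ : (algebraMap S B).comp (algebraMap R S) = σ.comp (algebraMap R A)) :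
    Nonempty ((B ⧸ (maximalIdeal A).map σ) ≃+* Localization.AtPrime Q) := by
  let q := Q.comap (includeRight : S →ₐ[R] p.Fiber S)
  let e : B ≃ₐ[S] Localization.AtPrime q := IsLocalization.algEquiv q.primeCompl _ _
  have hcomp : (e.toRingEquiv : B →+* Localization.AtPrime q).comp (algebraMap S B) =
      algebraMap S (Localization.AtPrime q) :=
    RingHom.ext fun s => e.commutes s
  have hI : ((maximalIdeal A).map σ).map (e.toRingEquiv : B →+* Localization.AtPrime q) =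
      (p.map (algebraMap R S)).map (algebraMap S (Localization.AtPrime q)) := by
    rw [← IsLocalization.AtPrime.map_eq_maximalIdeal p A, Ideal.map_map, Ideal.map_map, Ideal.map_map, RingHom.comp_assoc,
      ← hσ, ← RingHom.comp_assoc, hcomp]
  exact ⟨(Ideal.quotientEquiv _ _ e.toRingEquiv hI.symm).trans
    (Ideal.Fiber.algEquivAux₂ p Q).toRingEquiv.symm⟩

set_option maxHeartbeats 800000 in
open Algebra.TensorProduct in
theorem cmFibre_iff (f : X ⟶ Y) {U : Y.Opens} (hU : IsAffineOpen U) {V : X.Opens} (hV : IsAffineOpen V)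
    (hVU : V ≤ f ⁻¹ᵁ U) {x : X} (hx : x ∈ V) :
    letI := (f.appLE U V hVU).hom.toAlgebra
    ∀ Q : PrimeSpectrum ((hU.primeIdealOf ⟨f x, hVU hx⟩).asIdeal.Fiber Γ(X, V)),
      Q.asIdeal.comap (includeRight (R := Γ(Y, U))).toRingHom = (hV.primeIdealOf ⟨x, hx⟩).asIdeal →
      (LocCoh.IsCohenMacaulayLocalRing
        (X.presheaf.stalk x ⧸ (maximalIdeal (Y.presheaf.stalk (f x))).map (f.stalkMap x).hom) ↔
        LocCoh.IsCohenMacaulayLocalRing (Localization.AtPrime Q.asIdeal)) := by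
  letI := (f.appLE U V hVU).hom.toAlgebra
  intro Q hQ
  let R := Γ(Y, U)
  let S := Γ(X, V)
  letI aY := Y.presheaf.algebra_section_stalk ⟨f x, hVU hx⟩
  letI aX := X.presheaf.algebra_section_stalk ⟨x, hx⟩
  haveI hlY := hU.isLocalization_stalk ⟨f x, hVU hx⟩
  haveI hlX := hV.isLocalization_stalk ⟨x, hx⟩
  let p := (hU.primeIdealOf ⟨f x, hVU hx⟩).asIdeal
  let q := Q.asIdeal.comap (includeRight : S →ₐ[R] p.Fiber S)
  haveI : IsLocalization.AtPrime (X.presheaf.stalk x) q := by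
    have hq : q = (hV.primeIdealOf ⟨x, hx⟩).asIdeal := hQ
    simp only [IsLocalization.AtPrime, hq]
    exact hlX
  have hsq : ((algebraMap S (X.presheaf.stalk x)).comp (algebraMap R S)) =
      (f.stalkMap x).hom.comp (algebraMap R (Y.presheaf.stalk (f x))) := by
    refine RingHom.ext fun r => ?_
    show X.presheaf.germ V x hx (f.appLE U V hVU r) = f.stalkMap x (Y.presheaf.germ U (f x) (hVU hx) r)
    rw [f.germ_stalkMap_apply U x (hVU hx) r, Scheme.Hom.appLE, CommRingCat.comp_apply,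
      X.presheaf.germ_res_apply]
  obtain ⟨e⟩ := nonempty_fibre_equiv p Q.asIdeal (f.stalkMap x).hom hsq
  exact ⟨fun h => @FlatLocalDepth.isCohenMacaulayLocalRing_of_ringEquiv _ _ _ _ h e,
    fun h => @FlatLocalDepth.isCohenMacaulayLocalRing_of_ringEquiv _ _ _ _ h e.symm⟩

open Algebra.TensorProduct in
theorem fibreDimAt_eq_localDim (f : X ⟶ Y) {U : Y.Opens} (hU : IsAffineOpen U) {V : X.Opens} (hV : IsAffineOpen V)
    (hVU : V ≤ f ⁻¹ᵁ U) {x : X} (hx : x ∈ V) :
    letI := (f.appLE U V hVU).hom.toAlgebra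
    ∀ Q : PrimeSpectrum ((hU.primeIdealOf ⟨f x, hVU hx⟩).asIdeal.Fiber Γ(X, V)),
      Q.asIdeal.comap (includeRight (R := Γ(Y, U))).toRingHom = (hV.primeIdealOf ⟨x, hx⟩).asIdeal →
      FlatMor.fibreDimAt f x =
        FlatMor.localDim (PrimeSpectrum ((hU.primeIdealOf ⟨f x, hVU hx⟩).asIdeal.Fiber Γ(X, V))) Q := by
  letI := (f.appLE U V hVU).hom.toAlgebra
  intro Q hQ
  let pP := hU.primeIdealOf ⟨f x, hVU hx⟩
  let c := PrimeSpectrum.comap (algebraMap Γ(Y, U) Γ(X, V))
  have hset : c ⁻¹' {pP} = hV.fromSpec ⁻¹' (f ⁻¹' {f x}) := by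
    ext z
    have h2 : f (hV.fromSpec z) = hU.fromSpec (c z) := by
      show (hV.fromSpec ≫ f) z = _
      rw [← hU.SpecMap_appLE_fromSpec f hV hVU]
      rfl
    show c z = pP ↔ f (hV.fromSpec z) = f x
    rw [h2]
    refine ⟨fun h => ?_, fun h => hU.fromSpec.isOpenEmbedding.injective ?_⟩
    · rw [h]
      exact hU.fromSpec_primeIdealOf ⟨f x, hVU hx⟩
    · exact h.trans (hU.fromSpec_primeIdealOf ⟨f x, hVU hx⟩).symm
  let e₁ : PrimeSpectrum (pP.asIdeal.Fiber Γ(X, V)) ≃ₜ (c ⁻¹' {pP} : Set _) :=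
    (PrimeSpectrum.preimageHomeomorphFiber Γ(Y, U) Γ(X, V) pP).symm
  let e : PrimeSpectrum (pP.asIdeal.Fiber Γ(X, V)) → f.fiber (f x) :=
    (f.fiberHomeo (f x)).symm ∘ ((f ⁻¹' {f x}).restrictPreimage hV.fromSpec) ∘ (Homeomorph.setCongr hset) ∘ e₁
  have he : Topology.IsOpenEmbedding e :=
    (f.fiberHomeo (f x)).symm.isOpenEmbedding.comp
      (((f ⁻¹' {f x}).restrictPreimage_isOpenEmbedding hV.fromSpec.isOpenEmbedding).comp
        ((Homeomorph.setCongr hset).isOpenEmbedding.comp e₁.isOpenEmbedding))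
  have heQ : e Q = f.asFiber x := by
    refine congrArg (f.fiberHomeo (f x)).symm (Subtype.ext ?_)
    show hV.fromSpec (e₁ Q).1 = x
    have h3 : (e₁ Q).1 = hV.primeIdealOf ⟨x, hx⟩ := PrimeSpectrum.ext hQ
    rw [h3]
    exact hV.fromSpec_primeIdealOf ⟨x, hx⟩
  show FlatMor.localDim (f.fiber (f x)) (f.asFiber x) = _
  rw [← heQ]
  exact FieldExtLD.localDim_of_isOpenEmbedding he Q

set_option maxHeartbeats 1600000 in
open Algebra.TensorProduct in
theorem exists_factor_dim (f : X ⟶ Y) [LocallyOfFinitePresentation f] (x : X) (h : MoreMor.IsCMAt f x) :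
    ∃ (n : ℕ) (U : X.Opens) (hx : x ∈ U) (g : (U : Scheme.{u}) ⟶ 𝔸(ULift.{u} (Fin n); Y)),
      g ≫ (𝔸(ULift.{u} (Fin n); Y) ↘ Y) = U.ι ≫ f ∧ LocallyQuasiFinite g ∧ (g.stalkMap ⟨x, hx⟩).hom.Flat ∧
        FlatMor.fibreDimAt f x = (n : WithBot ℕ∞) := by
  obtain ⟨U, hU, V, hV, hVU, hxV⟩ := Unram.exists_chart f x
  rw [FlatLocalDepth.isCMAt_iff] at h
  obtain ⟨hfl, hcm⟩ := h
  have hflat := (Unram.flat_stalkMap_iff U hU V hV hVU hxV).1 hfl
  letI := (f.appLE U V hVU).hom.toAlgebra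
  let R := Γ(Y, U)
  let S := Γ(X, V)
  haveI : Algebra.FinitePresentation R S := f.finitePresentation_appLE hU hV hVU
  let qP := hV.primeIdealOf ⟨x, hxV⟩
  let pP := hU.primeIdealOf ⟨f x, hVU hxV⟩
  have hqp : PrimeSpectrum.comap (algebraMap R S) qP = pP :=
    IsAffineOpen.comap_primeIdealOf_appLE U hU V hV hVU hxV
  let Q : PrimeSpectrum (pP.asIdeal.Fiber S) := PrimeSpectrum.preimageOrderIsoFiber R S pP ⟨qP, hqp⟩
  have hQ : Q.asIdeal.comap (includeRight : S →ₐ[R] pP.asIdeal.Fiber S).toRingHom = qP.asIdeal :=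
    congrArg (fun z => z.1.asIdeal) ((PrimeSpectrum.preimageOrderIsoFiber R S pP).symm_apply_apply ⟨qP, hqp⟩)
  have hcmQ := (cmFibre_iff f hU hV hVU hxV Q hQ).1 hcm
  haveI : Module.Flat R (Localization.AtPrime qP.asIdeal) := hflat
  obtain ⟨n, hdimQ, s, hs, φ₀, hφqf, hφflat⟩ := exists_quasiFinite_flat qP.asIdeal pP.asIdeal Q hQ hcmQ
  let T := Localization.Away s
  let P := MvPolynomial (ULift.{u} (Fin n)) R
  let ρ := MvPolynomial.renameEquiv R (Equiv.ulift.{u} (α := Fin n))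
  let φ : P →ₐ[R] T := φ₀.comp ρ.toAlgHom
  let ι := Spec.map (CommRingCat.ofHom (algebraMap S T))
  haveI : IsOpenImmersion ι := IsOpenImmersion.of_isLocalization s
  let j : Spec (CommRingCat.of T) ⟶ X := ι ≫ hV.fromSpec
  let h : Spec (CommRingCat.of T) ⟶ 𝔸(ULift.{u} (Fin n); Y) :=
    Spec.map (CommRingCat.ofHom φ.toRingHom) ≫ ((AffineSpace.SpecIso (ULift.{u} (Fin n)) R).inv ≫
      AffineSpace.map (ULift.{u} (Fin n)) hU.fromSpec)
  haveI : IsOpenImmersion (AffineSpace.map (ULift.{u} (Fin n)) hU.fromSpec) :=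
    MorphismProperty.of_isPullback (AffineSpace.isPullback_map (n := ULift.{u} (Fin n)) hU.fromSpec).flip
      inferInstance
  have hover : h ≫ (𝔸(ULift.{u} (Fin n); Y) ↘ Y) = j ≫ f := by
    simp only [h, j, Category.assoc, AffineSpace.map_over, AffineSpace.SpecIso_inv_over_assoc]
    rw [← hU.SpecMap_appLE_fromSpec f hV hVU, ← Spec.map_comp_assoc]
    simp only [ι, ← Spec.map_comp_assoc]
    congr 2
    ext r : 2
    exact (φ.commutes r).trans (IsScalarTower.algebraMap_apply R S T r)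
  haveI : LocallyQuasiFinite (Spec.map (CommRingCat.ofHom φ.toRingHom)) := by
    rw [HasRingHomProperty.Spec_iff (P := @LocallyQuasiFinite)]
    exact hφqf.comp (RingHom.QuasiFinite.of_finite (RingHom.Finite.of_surjective _ ρ.surjective))
  haveI : LocallyQuasiFinite h := inferInstanceAs (LocallyQuasiFinite (_ ≫ _ ≫ _))
  have hsq : s ∉ qP.asIdeal := hs
  obtain ⟨a', ha⟩ : qP ∈ Set.range (PrimeSpectrum.comap (algebraMap S T)) := by
    rw [PrimeSpectrum.localization_away_comap_range T s]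
    exact hsq
  let a : ↥(Spec (CommRingCat.of T)) := a'
  have hja : j a = x := (specMap_comp_fromSpec_apply hV (algebraMap S T) a').trans
    ((congrArg hV.fromSpec ha).trans (hV.fromSpec_primeIdealOf ⟨x, hxV⟩))
  have hha : (h.stalkMap a).hom.Flat := by
    refine flat_stalkMap_comp (Spec.map (CommRingCat.ofHom φ.toRingHom))
      ((AffineSpace.SpecIso (ULift.{u} (Fin n)) R).inv ≫ AffineSpace.map (ULift.{u} (Fin n)) hU.fromSpec) a
      (flat_specMap_stalkMap (CommRingCat.ofHom φ.toRingHom) a' ?_) (Flat.stalkMap _ _)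
    show ((algebraMap T (Localization.AtPrime a'.asIdeal)).comp (φ₀.toRingHom.comp ρ.toRingEquiv.toRingHom)).Flat
    rw [← RingHom.comp_assoc]
    exact RingHom.Flat.comp (RingHom.Flat.of_bijective ρ.bijective)
      (hφflat a'.asIdeal (congrArg PrimeSpectrum.asIdeal ha))
  refine ⟨n, j.opensRange, ⟨a, hja⟩, j.isoOpensRange.inv ≫ h, ?_, inferInstance, ?_, (fibreDimAt_eq_localDim f hU hV hVU hxV Q hQ).trans hdimQ⟩
  · rw [Category.assoc, hover, Scheme.Hom.isoOpensRange_inv_comp_assoc]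
  · exact flat_stalkMap_isoOpensRange j h a x hja _ hha

theorem exists_factor (f : X ⟶ Y) [LocallyOfFinitePresentation f] (x : X) (h : MoreMor.IsCMAt f x) :
    ∃ (n : ℕ) (U : X.Opens) (hx : x ∈ U) (g : (U : Scheme.{u}) ⟶ 𝔸(ULift.{u} (Fin n); Y)),
      g ≫ (𝔸(ULift.{u} (Fin n); Y) ↘ Y) = U.ι ≫ f ∧ LocallyQuasiFinite g ∧ (g.stalkMap ⟨x, hx⟩).hom.Flat := by
  obtain ⟨n, U, hx, g, h1, h2, h3, -⟩ := exists_factor_dim f x h
  exact ⟨n, U, hx, g, h1, h2, h3⟩

end Groth.Agent.CMRel
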